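import Groth.Prelude.Def_LiftSq
import Groth.Prelude.Def_FibCat2

/-!
# Unique filling of squares: composition and base change
-/

set_option autoImplicit false

universe v₆ u₆ v₅ u₅ v₄ u₄ v₃ u₃ v₂ u₂ v u

open CategoryTheory Limits

set_option backward.isDefEq.respectTransparency false

namespace Groth.Agent.LiftSq14

open LiftSq

variable {C : Type u} [Category.{v} C]
  {𝒜 : BasedCategory.{v₂, u₂} C} {ℬ : BasedCategory.{v₃, u₃} C}
  {𝒳 : BasedCategory.{v₄, u₄} C} {𝒴 : BasedCategory.{v₅, u₅} C} {𝒵 : BasedCategory.{v₆, u₆} C}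

theorem hom_ext' {F G : 𝒳 ⥤ᵇ 𝒴} {α β : F ⟶ G} (h : ∀ a, α.toNatTrans.app a = β.toNatTrans.app a) : α = β :=
  BasedNatTrans.homCategory.ext _ _ (NatTrans.ext (funext h))

theorem app_comp {F G H : 𝒳 ⥤ᵇ 𝒴} (α : F ⟶ G) (β : G ⟶ H) (a : 𝒳.obj) :
    (α ≫ β).toNatTrans.app a = α.toNatTrans.app a ≫ β.toNatTrans.app a := rfl

theorem app_id (F : 𝒳 ⥤ᵇ 𝒴) (a : 𝒳.obj) : (𝟙 F : F ⟶ F).toNatTrans.app a = 𝟙 (F.obj a) := rfl

theorem iso_app_hom_inv {F G : 𝒳 ⥤ᵇ 𝒴} (α : F ≅ G) (a : 𝒳.obj) :
    α.hom.toNatTrans.app a ≫ α.inv.toNatTrans.app a = 𝟙 _ := by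
  rw [← app_comp, α.hom_inv_id, app_id]

theorem iso_app_inv_hom {F G : 𝒳 ⥤ᵇ 𝒴} (α : F ≅ G) (a : 𝒳.obj) :
    α.inv.toNatTrans.app a ≫ α.hom.toNatTrans.app a = 𝟙 _ := by
  rw [← app_comp, α.inv_hom_id, app_id]

/-- right whiskering of a 2-isomorphism -/
def wrIso {F G : 𝒳 ⥤ᵇ 𝒴} (α : F ≅ G) (H : 𝒴 ⥤ᵇ 𝒵) : BasedFunctor.comp F H ≅ BasedFunctor.comp G H where
  hom := BasedCategory.whiskerRight α.hom H
  inv := BasedCategory.whiskerRight α.inv H
  hom_inv_id := by rw [← whiskerRight_comp', α.hom_inv_id, whiskerRight_id']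
  inv_hom_id := by rw [← whiskerRight_comp', α.inv_hom_id, whiskerRight_id']

/-- left whiskering of a 2-isomorphism -/
def wlIso (F : 𝒳 ⥤ᵇ 𝒴) {G H : 𝒴 ⥤ᵇ 𝒵} (α : G ≅ H) : BasedFunctor.comp F G ≅ BasedFunctor.comp F H where
  hom := BasedCategory.whiskerLeft F α.hom
  inv := BasedCategory.whiskerLeft F α.inv
  hom_inv_id := by rw [← whiskerLeft_comp', α.hom_inv_id, whiskerLeft_id']
  inv_hom_id := by rw [← whiskerLeft_comp', α.inv_hom_id, whiskerLeft_id']

variable {j : 𝒜 ⥤ᵇ ℬ}

theorem lift_w_app {f : 𝒳 ⥤ᵇ 𝒴} {sq : Sq j f} (d : sq.Lift) (a : 𝒜.obj) :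
    d.isoBot.hom.toNatTrans.app (j.obj a) ≫ f.map (d.isoTop.hom.toNatTrans.app a) = sq.iso.hom.toNatTrans.app a :=
  congrArg (fun t => t.toNatTrans.app a) d.w

theorem top_app {f : 𝒳 ⥤ᵇ 𝒴} {sq : Sq j f} {d d' : sq.Lift} (θ : d ⟶ d') (a : 𝒜.obj) :
    θ.hom.toNatTrans.app (j.obj a) ≫ d'.isoTop.hom.toNatTrans.app a = d.isoTop.hom.toNatTrans.app a :=
  congrArg (fun t => t.toNatTrans.app a) θ.w_top

theorem bot_app {f : 𝒳 ⥤ᵇ 𝒴} {sq : Sq j f} {d d' : sq.Lift} (θ : d ⟶ d') (b : ℬ.obj) :
    d.isoBot.hom.toNatTrans.app b ≫ f.map (θ.hom.toNatTrans.app b) = d'.isoBot.hom.toNatTrans.app b :=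
  congrArg (fun t => t.toNatTrans.app b) θ.w_bot

theorem nonempty_unique {α : Type*} (a : α) (h : ∀ b, b = a) : Nonempty (Unique α) :=
  ⟨{ default := a, uniq := h }⟩

/-- morphisms of dotted arrows are invertible when dotted arrows are unique -/
noncomputable def isoOfUniq {f : 𝒳 ⥤ᵇ 𝒴} {sq : Sq j f} (hu : sq.UniqLift) (d d' : sq.Lift) : d ≅ d' :=
  haveI := (hu d d').some
  haveI := (hu d' d).some
  haveI := (hu d d).some
  haveI := (hu d' d').some
  { hom := default, inv := default, hom_inv_id := Subsingleton.elim _ _, inv_hom_id := Subsingleton.elim _ _ }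

theorem liftsUniquely_comp {f : 𝒳 ⥤ᵇ 𝒴} {g : 𝒴 ⥤ᵇ 𝒵} (hf : LiftsUniquely j f) (hg : LiftsUniquely j g) :
    LiftsUniquely j (BasedFunctor.comp f g) := by
  intro sq
  let sg : Sq j g := ⟨BasedFunctor.comp sq.top f, sq.bot, sq.iso⟩
  constructor
  · obtain ⟨d1⟩ := (hg sg).1
    let sf : Sq j f := ⟨sq.top, d1.fn, d1.isoTop⟩
    obtain ⟨d2⟩ := (hf sf).1
    refine ⟨{ fn := d2.fn
              isoTop := d2.isoTop
              isoBot := d1.isoBot ≪≫ wrIso d2.isoBot g
              w := hom_ext' fun a => ?_ }⟩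
    have h2 := congrArg (fun t => g.map t) (lift_w_app d2 a)
    simp only [Functor.map_comp] at h2
    have h1 := lift_w_app d1 a
    calc (d1.isoBot.hom.toNatTrans.app (j.obj a) ≫ g.map (d2.isoBot.hom.toNatTrans.app (j.obj a))) ≫
          g.map (f.map (d2.isoTop.hom.toNatTrans.app a))
        = d1.isoBot.hom.toNatTrans.app (j.obj a) ≫ g.map (d1.isoTop.hom.toNatTrans.app a) := by
          rw [Category.assoc]; exact congrArg (_ ≫ ·) h2
      _ = _ := h1
  · intro d d'
    let mk1 : sq.Lift → sg.Lift := fun d =>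
      { fn := BasedFunctor.comp d.fn f
        isoTop := wrIso d.isoTop f
        isoBot := d.isoBot
        w := d.w }
    let θ := isoOfUniq (hg sg).2 (mk1 d) (mk1 d')
    let θh : BasedFunctor.comp d.fn f ≅ BasedFunctor.comp d'.fn f :=
      { hom := θ.hom.hom
        inv := θ.inv.hom
        hom_inv_id := congrArg Sq.Lift.Hom.hom θ.hom_inv_id
        inv_hom_id := congrArg Sq.Lift.Hom.hom θ.inv_hom_id }
    let sf : Sq j f := ⟨sq.top, BasedFunctor.comp d.fn f, wrIso d.isoTop f⟩
    let e : sf.Lift :=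
      { fn := d.fn
        isoTop := d.isoTop
        isoBot := Iso.refl _
        w := hom_ext' fun a => Category.id_comp _ }
    let e' : sf.Lift :=
      { fn := d'.fn
        isoTop := d'.isoTop
        isoBot := θh
        w := θ.hom.w_top }
    haveI := ((hf sf).2 e e').some
    let φ : e ⟶ e' := default
    have hφ : BasedCategory.whiskerRight φ.hom f = θ.hom.hom := hom_ext' fun b => by
      have := bot_app φ b
      exact (Category.id_comp _).symm.trans this
    refine nonempty_unique ⟨φ.hom, φ.w_top, hom_ext' fun b => ?_⟩ fun ψ => ?_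
    · have := bot_app θ.hom b
      exact (congrArg (fun t => d.isoBot.hom.toNatTrans.app b ≫ g.map t)
        (congrArg (fun t => t.toNatTrans.app b) hφ)).trans this
    · haveI := ((hg sg).2 (mk1 d) (mk1 d')).some
      let ψ1 : mk1 d ⟶ mk1 d' :=
        { hom := BasedCategory.whiskerRight ψ.hom f
          w_top := hom_ext' fun a => by
            exact (f.toFunctor.map_comp _ _).symm.trans (congrArg (fun t => f.map t) (top_app ψ a))
          w_bot := ψ.w_bot }
      let ψ2 : e ⟶ e' :=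
        { hom := ψ.hom
          w_top := ψ.w_top
          w_bot := (Category.id_comp _).trans (congrArg Sq.Lift.Hom.hom (Subsingleton.elim ψ1 θ.hom)) }
      have hh : ψ2.hom = φ.hom := congrArg Sq.Lift.Hom.hom (Subsingleton.elim ψ2 φ)
      exact Sq.Lift.hom_ext hh

section BaseChange

universe v₇ u₇

variable {𝒴' : BasedCategory.{v₇, u₇} C}

theorem fp_shift {f : 𝒳 ⥤ᵇ 𝒴} {y : 𝒴' ⥤ᵇ 𝒴} {P Q : (FibCat.fp y f).obj} (m : P ⟶ Q) {Z : 𝒴'.obj}
    (α : Z ⟶ P.obj.fst) {δ : Z ⟶ Q.obj.fst} (h : α ≫ m.hom.fst = δ) :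
    (y.map α ≫ P.obj.iso.hom) ≫ f.map m.hom.snd = y.map δ ≫ Q.obj.iso.hom := by
  subst h
  rw [Category.assoc, ← m.hom.w, ← Category.assoc, ← Functor.map_comp]

theorem liftsUniquely_fpFst {f : 𝒳 ⥤ᵇ 𝒴} {y : 𝒴' ⥤ᵇ 𝒴} (hf : LiftsUniquely j f) :
    LiftsUniquely j (FibCat.fpFst y f) := by
  intro sq
  let sf : Sq j f :=
    { top := BasedFunctor.comp sq.top (FibCat.fpSnd y f)
      bot := BasedFunctor.comp sq.bot y
      iso := wrIso sq.iso y ≪≫ wlIso sq.top (FibCat.fpIso y f) }
  constructor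
  · obtain ⟨d⟩ := (hf sf).1
    let fn := FibCat.fpLift (F := y) (G := f) sq.bot d.fn d.isoBot
    have hw : ∀ a, d.isoBot.hom.toNatTrans.app (j.obj a) ≫ f.map (d.isoTop.hom.toNatTrans.app a) =
        y.map (sq.iso.hom.toNatTrans.app a) ≫ (sq.top.obj a).obj.iso.hom := fun a => lift_w_app d a
    let comps : ∀ a : 𝒜.obj, fn.obj (j.obj a) ≅ sq.top.obj a := fun a =>
      ObjectProperty.isoMk _ (CategoricalPullback.mkIso
        (((BasedNatTrans.forgetful _ _).mapIso sq.iso).app a)
        (((BasedNatTrans.forgetful _ _).mapIso d.isoTop).app a)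
        (hw a).symm)
    let isoTop : BasedFunctor.comp j fn ≅ sq.top := BasedNatIso.mkNatIso
      (NatIso.ofComponents comps (fun {a a'} g => by
        apply ObjectProperty.hom_ext
        apply CategoricalPullback.hom_ext
        · exact sq.iso.hom.toNatTrans.naturality g
        · exact d.isoTop.hom.toNatTrans.naturality g))
      (fun a => by
        have h := sq.iso.hom.isHomLift (rfl : 𝒜.p.obj a = _)
        have h' := IsHomLift.fac' 𝒴'.p (𝟙 (𝒜.p.obj a)) (sq.iso.hom.toNatTrans.app a)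
        exact IsHomLift.of_fac' _ _ _ ((BasedFunctor.comp j fn).w_obj a) (sq.top.w_obj a) h')
    refine ⟨{ fn := fn
              isoTop := isoTop
              isoBot := Iso.refl _
              w := hom_ext' fun a => Category.id_comp _ }⟩
  · intro d d'
    let mk1 : sq.Lift → sf.Lift := fun d =>
      { fn := BasedFunctor.comp d.fn (FibCat.fpSnd y f)
        isoTop := wrIso d.isoTop (FibCat.fpSnd y f)
        isoBot := wrIso d.isoBot y ≪≫ wlIso d.fn (FibCat.fpIso y f)
        w := hom_ext' fun a => by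
          change (y.map (d.isoBot.hom.toNatTrans.app (j.obj a)) ≫ (d.fn.obj (j.obj a)).obj.iso.hom) ≫
              f.map (d.isoTop.hom.toNatTrans.app a).hom.snd =
            y.map (sq.iso.hom.toNatTrans.app a) ≫ (sq.top.obj a).obj.iso.hom
          exact fp_shift (d.isoTop.hom.toNatTrans.app a) _ (lift_w_app d a) }
    haveI := ((hf sf).2 (mk1 d) (mk1 d')).some
    let θ : mk1 d ⟶ mk1 d' := default
    let c1 := fun b => d.isoBot.inv.toNatTrans.app b ≫ d'.isoBot.hom.toNatTrans.app b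
    have hθ : ∀ b, y.map (c1 b) ≫ (d'.fn.obj b).obj.iso.hom =
        (d.fn.obj b).obj.iso.hom ≫ f.map (θ.hom.toNatTrans.app b) := fun b => by
      have h : (y.map (d.isoBot.hom.toNatTrans.app b) ≫ (d.fn.obj b).obj.iso.hom) ≫ f.map (θ.hom.toNatTrans.app b) =
          y.map (d'.isoBot.hom.toNatTrans.app b) ≫ (d'.fn.obj b).obj.iso.hom := bot_app θ b
      change y.map (d.isoBot.inv.toNatTrans.app b ≫ d'.isoBot.hom.toNatTrans.app b) ≫ _ = _
      rw [Functor.map_comp, Category.assoc, ← h, Category.assoc, ← Category.assoc, ← Functor.map_comp,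
        iso_app_inv_hom, Functor.map_id]
      exact Category.id_comp _
    let ψn : d.fn ⟶ d'.fn :=
      { toNatTrans :=
          { app := fun b => ObjectProperty.homMk ⟨c1 b, θ.hom.toNatTrans.app b, hθ b⟩
            naturality := fun b b' g => by
              apply ObjectProperty.hom_ext
              apply CategoricalPullback.hom_ext
              · exact (d.isoBot.inv ≫ d'.isoBot.hom).toNatTrans.naturality g
              · exact θ.hom.toNatTrans.naturality g }
        isHomLift' := fun b => by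
          have h := (d.isoBot.inv ≫ d'.isoBot.hom).isHomLift (rfl : ℬ.p.obj b = _)
          have h' := IsHomLift.fac' 𝒴'.p (𝟙 (ℬ.p.obj b))
            ((d.isoBot.inv ≫ d'.isoBot.hom).toNatTrans.app b)
          exact IsHomLift.of_fac' _ _ _ (d.fn.w_obj b) (d'.fn.w_obj b) h' }
    let ψ : d ⟶ d' :=
      { hom := ψn
        w_top := hom_ext' fun a => by
          apply ObjectProperty.hom_ext
          apply CategoricalPullback.hom_ext
          · change (d.isoBot.inv.toNatTrans.app (j.obj a) ≫ d'.isoBot.hom.toNatTrans.app (j.obj a)) ≫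
                (d'.isoTop.hom.toNatTrans.app a).hom.fst = (d.isoTop.hom.toNatTrans.app a).hom.fst
            have h1 : d.isoBot.hom.toNatTrans.app (j.obj a) ≫ (d.isoTop.hom.toNatTrans.app a).hom.fst =
                sq.iso.hom.toNatTrans.app a := lift_w_app d a
            have h2 : d'.isoBot.hom.toNatTrans.app (j.obj a) ≫ (d'.isoTop.hom.toNatTrans.app a).hom.fst =
                sq.iso.hom.toNatTrans.app a := lift_w_app d' a
            rw [Category.assoc, h2, ← h1, ← Category.assoc, iso_app_inv_hom]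
            exact Category.id_comp _
          · exact top_app θ a
        w_bot := hom_ext' fun b => by
          change d.isoBot.hom.toNatTrans.app b ≫ d.isoBot.inv.toNatTrans.app b ≫ d'.isoBot.hom.toNatTrans.app b = _
          rw [← Category.assoc, iso_app_hom_inv]
          exact Category.id_comp _ }
    refine nonempty_unique ψ fun χ => ?_
    let χ1 : mk1 d ⟶ mk1 d' :=
      { hom := BasedCategory.whiskerRight χ.hom (FibCat.fpSnd y f)
        w_top := hom_ext' fun a => congrArg (fun t => t.hom.snd) (top_app χ a)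
        w_bot := hom_ext' fun b => by
          change (y.map (d.isoBot.hom.toNatTrans.app b) ≫ (d.fn.obj b).obj.iso.hom) ≫
              f.map (χ.hom.toNatTrans.app b).hom.snd =
            y.map (d'.isoBot.hom.toNatTrans.app b) ≫ (d'.fn.obj b).obj.iso.hom
          exact fp_shift (χ.hom.toNatTrans.app b) _ (bot_app χ b) }
    have e1 : χ1.hom = θ.hom := congrArg Sq.Lift.Hom.hom (Subsingleton.elim χ1 θ)
    refine Sq.Lift.hom_ext (hom_ext' fun b => ?_)
    apply ObjectProperty.hom_ext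
    apply CategoricalPullback.hom_ext
    · have h : d.isoBot.hom.toNatTrans.app b ≫ (χ.hom.toNatTrans.app b).hom.fst = d'.isoBot.hom.toNatTrans.app b :=
        bot_app χ b
      change _ = d.isoBot.inv.toNatTrans.app b ≫ d'.isoBot.hom.toNatTrans.app b
      rw [← h, ← Category.assoc, iso_app_inv_hom]
      exact (Category.id_comp _).symm
    · exact congrArg (fun t => t.toNatTrans.app b) e1

end BaseChange

end Groth.Agent.LiftSq14
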